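import Groth.Agent.Univ70.Watts
import Groth.Agent.QCTens72.Basic
import Groth.Agent.QCPull72.Sections
import Groth.Agent.QC70.HomMod
import Groth.Agent.QC70.Ideal
import Groth.Agent.Omega57.Pull
import Groth.Agent.FF71.Sections
import Groth.Agent.FlatMor68.FlatSections
import Groth.Prelude.Def_ega3
import Groth.Prelude.Def_PicLoc
import Mathlib.RingTheory.Flat.Stability

/-! Sections of `f^*M~ ⊗ F` over affine opens. -/

set_option autoImplicit false
set_option backward.isDefEq.respectTransparency.types false
set_option maxSynthPendingDepth 6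

noncomputable section

universe u

open CategoryTheory CategoryTheory.Limits AlgebraicGeometry TopologicalSpace Opposite MonoidalCategory
open Groth.Agent.QC70
open scoped TensorProduct

namespace Groth.Agent.Univ70

section Smul

variable {X Y : Scheme.{u}}

theorem smulModΓ_app (N : X.Modules) (r : Γ(X, ⊤)) (V : X.Opens) (x : Γ(N, V)) :
    (Formal.smulModΓ N r).app V x = resO X (le_top : V ≤ ⊤) r • x := rfl

/-- Inverse image commutes with multiplication by functions. -/
theorem pullback_map_smulΓ (f : X ⟶ Y) (N : Y.Modules) (r : Γ(Y, ⊤)) :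
    (Scheme.Modules.pullback f).map (Formal.smulModΓ N r) =
      Formal.smulModΓ ((Scheme.Modules.pullback f).obj N) (f.appTop r) := by
  let adj := Scheme.Modules.pullbackPushforwardAdjunction f
  apply (adj.homEquiv _ _).injective
  rw [adj.homEquiv_unit, adj.homEquiv_unit]
  refine (adj.unit.naturality (Formal.smulModΓ N r)).symm.trans (Scheme.Modules.hom_ext _ _ fun U => ?_)
  ext x
  show (adj.unit.app N).app U (resO Y (le_top : U ≤ ⊤) r • x) =
    resO X (le_top : f ⁻¹ᵁ U ≤ ⊤) (f.appTop r) •
      (show Γ((Scheme.Modules.pullback f).obj N, f ⁻¹ᵁ U) from (adj.unit.app N).app U x)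
  rw [Scheme.Modules.Hom.app_smul]
  show f.app U (resO Y (le_top : U ≤ ⊤) r) • (show Γ((Scheme.Modules.pullback f).obj N, f ⁻¹ᵁ U) from (adj.unit.app N).app U x) = _
  congr 1
  exact ConcreteCategory.congr_hom (f.naturality (homOfLE (le_top : U ≤ ⊤)).op) r

/-- Tensoring commutes with multiplication by functions. -/
theorem tensorRightMod_map_smulΓ (F P : X.Modules) (r : Γ(X, ⊤)) :
    (DCoh.tensorRightMod F).map (Formal.smulModΓ P r) =
      Formal.smulModΓ ((DCoh.tensorRightMod F).obj P) r := by
  let adj := Mod48.shfAdj (O := X.sheaf)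
  let Q : CohB1.PMod X := CohB1.tensorPre P F
  let g : Q ⟶ Q := (tensorRight (CohB1.toPMod F)).map (DCoh.toP.map (Formal.smulModΓ P r))
  apply (adj.homEquiv Q _).injective
  rw [adj.homEquiv_unit, adj.homEquiv_unit]
  refine (adj.unit.naturality g).symm.trans ?_
  refine PresheafOfModules.hom_ext fun U => ?_
  refine ModuleCat.MonoidalCategory.tensor_ext fun p q => ?_
  show (adj.unit.app Q).app U (g.app U (p ⊗ₜ q)) =
    resO X (le_top : U.unop ≤ ⊤) r •
      (show Γ((DCoh.tensorRightMod F).obj P, U.unop) from (adj.unit.app Q).app U (p ⊗ₜ q))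
  have hg : g.app U (p ⊗ₜ q) = Mod48.tp (O := X.sheaf) (M := CohB1.toPMod P) (N := CohB1.toPMod F)
      (X := U) (resO X (le_top : U.unop ≤ ⊤) r • (show Γ(P, U.unop) from p)) q := rfl
  rw [hg]
  refine (congrArg (fun z => (adj.unit.app Q).app U z)
    (Mod48.tp_smul_left (O := X.sheaf) (M := CohB1.toPMod P) (N := CohB1.toPMod F)
      (X := U) (resO X (le_top : U.unop ≤ ⊤) r) p q)).trans ?_
  exact map_smul ((adj.unit.app Q).app U).hom _ _

/-- The sheaf of a scalar multiplication. -/
theorem tilde_map_smul {R : CommRingCat.{u}} (M : ModuleCat.{u} R) (a : R) :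
    tilde.map (a • 𝟙 M) = Formal.smulModΓ (tilde M) ((Scheme.ΓSpecIso R).inv a) := by
  refine Omega57.hom_ext_top (isAffineOpen_top (Spec R)) _ _ fun x => ?_
  obtain ⟨m, rfl⟩ := (ConcreteCategory.bijective_of_isIso (tilde.toOpen M ⊤)).2 x
  refine (congr($(tilde.toOpen_map_app (a • 𝟙 M) ⊤).hom m) : _).trans ?_
  show toTop M (a • m) = resO (Spec R) (le_top : (⊤ : (Spec R).Opens) ≤ ⊤) ((Scheme.ΓSpecIso R).inv a) • toTop M m
  exact toTop_smul M a m

end Smul

section Sections

variable (A : Type u) [CommRing A] {X : Scheme.{u}} [X.Over (Spec (CommRingCat.of A))] (F : X.Modules)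

/-- `M ↦ f^*M~ ⊗ F`. -/
abbrev TA : ModuleCat.{u} A ⥤ X.Modules := CohIII.tensorAFunctor A F

/-- The functor is linear over `A`. -/
theorem map_smul_id (M : ModuleCat.{u} A) (a : A) :
    (TA A F).map (a • 𝟙 M) = Formal.smulMod A ((TA A F).obj M) a := by
  let f := X ↘ Spec (CommRingCat.of A)
  refine (congrArg (fun φ => (DCoh.tensorRightMod F).map ((Scheme.Modules.pullback f).map φ))
    (tilde_map_smul (R := CommRingCat.of A) M a)).trans ?_
  refine (congrArg (fun φ => (DCoh.tensorRightMod F).map φ) (pullback_map_smulΓ f (tilde M) _)).trans ?_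
  exact tensorRightMod_map_smulΓ F ((Scheme.Modules.pullback f).obj (tilde M)) _

instance additive_TA : (TA A F).Additive :=
  have : (moduleSpecΓFunctor (R := CommRingCat.of A)).Additive := ⟨fun {_ _ _ _} => rfl⟩
  have : (tilde.functor (CommRingCat.of A)).Additive :=
    (tilde.adjunction (R := CommRingCat.of A)).left_adjoint_additive
  have : (Scheme.Modules.pullback (X ↘ Spec (CommRingCat.of A))).Additive :=
    (Scheme.Modules.pullbackPushforwardAdjunction _).left_adjoint_additive
  have : (DCoh.tensorRightMod F).Additive := DCoh.additive_tensorRightMod F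
  inferInstanceAs (tilde.functor (CommRingCat.of A) ⋙ Scheme.Modules.pullback _ ⋙ DCoh.tensorRightMod F).Additive

theorem isQuasicoherent_TA [F.IsQuasicoherent] (M : ModuleCat.{u} A) :
    ((TA A F).obj M).IsQuasicoherent :=
  by
  have := QCPull72.isQuasicoherent_pullback (X ↘ Spec (CommRingCat.of A)) (tilde M)
  have h := QCTens72.isQuasicoherent_tensorMod
    ((Scheme.Modules.pullback (X ↘ Spec (CommRingCat.of A))).obj (tilde M)) F
  show SheafOfModules.IsQuasicoherent
    ((DCoh.tensorRightMod F).obj ((Scheme.Modules.pullback (X ↘ Spec (CommRingCat.of A))).obj (tilde M)))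
  unfold DCoh.tensorRightMod DCoh.shP
  exact h

theorem preservesColimits_tensorRightMod : PreservesColimitsOfSize.{u, u} (DCoh.tensorRightMod F) :=
  have : PreservesColimitsOfSize.{u, u} ((ModSite.tensorBi X.sheaf).flip.obj F) :=
    (homModAdjR F).leftAdjoint_preservesColimits
  preservesColimits_of_natIso (F := (ModSite.tensorBi X.sheaf).flip.obj F)
    (NatIso.ofComponents (fun _ => Iso.refl _)
      (fun f => (Category.comp_id _).trans (Category.id_comp _).symm))

theorem preservesColimits_TA : PreservesColimitsOfSize.{u, u} (TA A F) :=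
  have : PreservesColimitsOfSize.{u, u} (tilde.functor (CommRingCat.of A)) :=
    (tilde.adjunction (R := CommRingCat.of A)).leftAdjoint_preservesColimits
  have : PreservesColimitsOfSize.{u, u} (Scheme.Modules.pullback (X ↘ Spec (CommRingCat.of A))) :=
    (Scheme.Modules.pullbackPushforwardAdjunction _).leftAdjoint_preservesColimits
  have := preservesColimits_tensorRightMod F
  comp_preservesColimits (tilde.functor (CommRingCat.of A))
    (Scheme.Modules.pullback (X ↘ Spec (CommRingCat.of A)) ⋙ DCoh.tensorRightMod F)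

/-- Sections over an open, as abelian groups. -/
abbrev secAb (V : X.Opens) : X.Modules ⥤ AddCommGrpCat.{u} :=
  Scheme.Modules.toPresheaf X ⋙ (evaluation X.Opensᵒᵖ AddCommGrpCat.{u}).obj (op V)

variable {V : X.Opens}

/-- The restriction to an affine open, as a module valued functor. -/
abbrev secSpec (hV : IsAffineOpen V) : ModuleCat.{u} A ⥤ ModuleCat.{u} Γ(X, V) :=
  TA A F ⋙ Scheme.Modules.restrictFunctor hV.fromSpec ⋙ moduleSpecΓFunctor

theorem preservesColimits_secSpec [F.IsQuasicoherent] (hV : IsAffineOpen V) :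
    PreservesColimitsOfSize.{u, u} (secSpec A F hV) := by
  have := preservesColimits_TA A F
  let R : ModuleCat.{u} A ⥤ (Spec Γ(X, V)).Modules :=
    TA A F ⋙ Scheme.Modules.restrictFunctor hV.fromSpec
  have : PreservesColimitsOfSize.{u, u} (Scheme.Modules.restrictFunctor hV.fromSpec) :=
    (Scheme.Modules.restrictAdjunction hV.fromSpec).leftAdjoint_preservesColimits
  have : PreservesColimitsOfSize.{u, u} R := comp_preservesColimits _ _
  have h : ∀ M, IsIso (R.obj M).fromTildeΓ := fun M =>
    have := isQuasicoherent_TA A F M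
    (isLocAt_iff_isIso_fromTildeΓ _ hV).mp (isLocAt_of_isQuasicoherent _ hV)
  let e : secSpec A F hV ⋙ tilde.functor Γ(X, V) ≅ R :=
    NatIso.ofComponents (fun M => @asIso _ _ _ _ (R.obj M).fromTildeΓ (h M))
      (fun f => Scheme.Modules.fromTildeΓNatTrans.naturality (R.map f))
  have : PreservesColimitsOfSize.{u, u} (secSpec A F hV ⋙ tilde.functor Γ(X, V)) :=
    preservesColimits_of_natIso e.symm
  exact preservesColimits_of_reflects_of_preserves (secSpec A F hV) (tilde.functor Γ(X, V))

/-- The two descriptions of sections over an affine open. -/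
def secSpecIso (hV : IsAffineOpen V) :
    secSpec A F hV ⋙ forget₂ (ModuleCat.{u} Γ(X, V)) AddCommGrpCat.{u} ≅ TA A F ⋙ secAb V :=
  NatIso.ofComponents
    (fun M => (QCPull72.specTopEquiv ((TA A F).obj M) hV).toAddEquiv.toAddCommGrpIso)
    (fun f => by
      ext x
      exact (app_res ((TA A F).map f) (QCPull72.fromSpec_image_top hV).ge _).symm)

theorem preservesColimits_secAb [F.IsQuasicoherent] (hV : IsAffineOpen V) :
    PreservesColimitsOfSize.{u, u} (TA A F ⋙ secAb V) :=
  have := preservesColimits_secSpec A F hV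
  have : PreservesColimitsOfSize.{u, u} (secSpec A F hV ⋙ forget₂ (ModuleCat.{u} Γ(X, V)) AddCommGrpCat.{u}) :=
    comp_preservesColimits _ _
  preservesColimits_of_natIso (secSpecIso A F hV)

/-- Sections of a module over an open, as an `A`-module. -/
abbrev secA (P : X.Modules) (V : X.Opens) : ModuleCat.{u} A :=
  (ModuleCat.restrictScalars (FF71.rA A X V)).obj (ModuleCat.of Γ(X, V) Γ(P, V))

/-- A morphism on sections, linearly over `A`. -/
def secMap {P Q : X.Modules} (φ : P ⟶ Q) (V : X.Opens) : secA A P V →ₗ[A] secA A Q V where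
  toFun s := φ.app V s
  map_add' s t := map_add (φ.app V).hom s t
  map_smul' a s := Scheme.Modules.Hom.app_smul φ (FF71.rA A X V a) s

theorem smulMod_app (P : X.Modules) (a : A) (V : X.Opens) (s : secA A P V) :
    (Formal.smulMod A P a).app V s = a • s := rfl

variable {A} in
/-- The element of a module, as a map from the ring. -/
abbrev elem {M : ModuleCat.{u} A} (m : M) : ModuleCat.of A A ⟶ M :=
  ModuleCat.ofHom (LinearMap.toSpanSingleton A M m)

theorem elem_add {M : ModuleCat.{u} A} (m m' : M) : elem (m + m') = elem m + elem m' :=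
  ModuleCat.hom_ext (LinearMap.ext_ring (by simp))

theorem elem_smul {M : ModuleCat.{u} A} (a : A) (m : M) : elem (a • m) = elem m ≫ (a • 𝟙 M) :=
  ModuleCat.hom_ext (LinearMap.ext_ring (by simp))

theorem elem_comp {M N : ModuleCat.{u} A} (g : M ⟶ N) (m : M) : elem m ≫ g = elem (g.hom m) :=
  ModuleCat.hom_ext (LinearMap.ext_ring (by simp))

/-- The sections of `f^*A~ ⊗ F`. -/
abbrev secRing (V : X.Opens) : ModuleCat.{u} A := secA A ((TA A F).obj (ModuleCat.of A A)) V

/-- The comparison map `Γ(V, F) ⊗ M → Γ(V, f^*M~ ⊗ F)`. -/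
def theta (M : ModuleCat.{u} A) (V : X.Opens) :
    secRing A F V ⊗[A] M →ₗ[A] secA A ((TA A F).obj M) V :=
  TensorProduct.lift (LinearMap.mk₂ A (fun s m => secMap A ((TA A F).map (elem m)) V s)
    (fun s t m => map_add _ s t) (fun a s m => map_smul _ a s)
    (fun s m m' => by
      rw [elem_add, Functor.map_add]
      rfl)
    (fun a s m => by
      rw [elem_smul, Functor.map_comp, map_smul_id]
      rfl))

theorem theta_tmul (M : ModuleCat.{u} A) (V : X.Opens) (s : secRing A F V) (m : M) :
    theta A F M V (s ⊗ₜ m) = ((TA A F).map (elem m)).app V s := rfl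

theorem theta_natural {M N : ModuleCat.{u} A} (g : M ⟶ N) (V : X.Opens)
    (x : secRing A F V ⊗[A] M) :
    ((TA A F).map g).app V (theta A F M V x) = theta A F N V (g.hom.lTensor _ x) := by
  induction x using TensorProduct.induction_on with
  | zero => simp only [map_zero]; exact map_zero (((TA A F).map g).app V).hom
  | tmul s m =>
    rw [theta_tmul, LinearMap.lTensor_tmul, theta_tmul, ← elem_comp, Functor.map_comp]
    rfl
  | add x y hx hy =>
    simp only [map_add, ← hx, ← hy]
    exact map_add (((TA A F).map g).app V).hom _ _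

/-- Restriction, linearly over `A`. -/
def resA (P : X.Modules) {V W : X.Opens} (h : W ≤ V) : secA A P V →ₗ[A] secA A P W where
  toFun s := QC70.res P h s
  map_add' s t := map_add (P.presheaf.map (homOfLE h).op).hom s t
  map_smul' a s := by
    refine (res_smul h (FF71.rA A X V a) (show Γ(P, V) from s)).trans ?_
    rw [FF71.resO_rA]
    rfl

theorem theta_res (M : ModuleCat.{u} A) {V W : X.Opens} (h : W ≤ V) (x : secRing A F V ⊗[A] M) :
    resA A ((TA A F).obj M) h (theta A F M V x) =
      theta A F M W ((resA A _ h).rTensor M x) := by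
  induction x using TensorProduct.induction_on with
  | zero => simp only [map_zero]
  | tmul s m =>
    rw [theta_tmul, LinearMap.rTensor_tmul, theta_tmul]
    exact (app_res ((TA A F).map (elem m)) h s).symm
  | add x y hx hy => simp only [map_add, hx, hy]

theorem bijective_theta [F.IsQuasicoherent] (hV : IsAffineOpen V) (M : ModuleCat.{u} A) :
    Function.Bijective (theta A F M V) := by
  have := preservesColimits_secAb A F hV
  let N := secRing A F V
  have : PreservesColimitsOfSize.{u, u} (tensorLeft N) :=
    (ihom.adjunction N).leftAdjoint_preservesColimits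
  let P : ModuleCat.{u} A ⥤ AddCommGrpCat.{u} := tensorLeft N ⋙ forget₂ _ _
  have : PreservesColimitsOfSize.{u, u} P := comp_preservesColimits _ _
  have : PreservesColimitsOfSize.{0, 0} P := preservesColimitsOfSize_shrink _
  have : PreservesColimitsOfSize.{0, 0} (TA A F ⋙ secAb V) := preservesColimitsOfSize_shrink _
  let α : P ⟶ TA A F ⋙ secAb V :=
    { app := fun M => AddCommGrpCat.ofHom (theta A F M V).toAddMonoidHom
      naturality := fun M' N' g => by
        ext x
        exact (theta_natural A F g V x).symm }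
  have h : IsIso (α.app (ModuleCat.of A A)) := by
    rw [ConcreteCategory.isIso_iff_bijective]
    have e : ∀ x, theta A F (ModuleCat.of A A) V x = TensorProduct.rid A N x := fun x => by
      induction x using TensorProduct.induction_on with
      | zero => simp only [map_zero]
      | tmul s m =>
        rw [theta_tmul, TensorProduct.rid_tmul]
        have : elem (M := ModuleCat.of A A) m = m • 𝟙 (ModuleCat.of A A) :=
          ModuleCat.hom_ext (LinearMap.ext_ring (by simp))
        rw [this, map_smul_id]
        rfl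
      | add x y hx hy => simp only [map_add, hx, hy]
    exact (Function.Bijective.of_comp_iff' Function.bijective_id _).mp
      (by
        have : (theta A F (ModuleCat.of A A) V : _ → _) = TensorProduct.rid A N := funext e
        show Function.Bijective (theta A F (ModuleCat.of A A) V)
        rw [this]
        exact (TensorProduct.rid A N).bijective)
  exact (ConcreteCategory.isIso_iff_bijective _).mp (isIso_app_of_isIso_app_ring P _ α h M)

theorem flat_secA {P : X.Modules} [P.IsQuasicoherent]
    (hfl : FlatMod.IsFlatOver (X ↘ Spec (CommRingCat.of A)) P) (hV : IsAffineOpen V) :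
    Module.Flat A (secA A P V) := by
  let f := X ↘ Spec (CommRingCat.of A)
  have h := FlatMor68.FlatSections.flat_sections f (U := V) (V := ⊤) le_top hV (isAffineOpen_top _)
    (isLocAt_of_isQuasicoherent P hV) fun x _ => hfl x
  let i := (Scheme.ΓSpecIso (CommRingCat.of A)).inv.hom
  letI : Algebra A Γ(Spec (CommRingCat.of A), ⊤) := i.toAlgebra
  letI : Module Γ(Spec (CommRingCat.of A), ⊤) (secA A P V) :=
    Module.compHom Γ(P, V) (f.appLE ⊤ V le_top).hom
  haveI : IsScalarTower A Γ(Spec (CommRingCat.of A), ⊤) (secA A P V) :=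
    IsScalarTower.of_algebraMap_smul fun a s => rfl
  haveI : Module.Flat A Γ(Spec (CommRingCat.of A), ⊤) :=
    Module.Flat.of_linearEquiv (AlgEquiv.ofRingEquiv
      (f := (Scheme.ΓSpecIso (CommRingCat.of A)).commRingCatIsoToRingEquiv.symm)
      (fun a => rfl)).symm.toLinearEquiv
  haveI : Module.Flat Γ(Spec (CommRingCat.of A), ⊤) (secA A P V) := h
  exact Module.Flat.trans A Γ(Spec (CommRingCat.of A), ⊤) (secA A P V)

/-- `f^*A~ ⊗ F ≅ F`. -/
def TARingIso : (TA A F).obj (ModuleCat.of A A) ≅ F :=
  (DCoh.tensorRightMod F).mapIso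
    ((Scheme.Modules.pullback _).mapIso (tildeSelf (R := CommRingCat.of A)) ≪≫
      PicLoc.pullbackStructureIso _) ≪≫ EGA73.tensUnitLeft F

theorem flat_secRing [F.IsQuasicoherent] (hfl : FlatMod.IsFlatOver (X ↘ Spec (CommRingCat.of A)) F)
    (hV : IsAffineOpen V) : Module.Flat A (secRing A F V) :=
  have := flat_secA A hfl hV
  Module.Flat.of_linearEquiv (LinearEquiv.ofBijective (secMap A (TARingIso A F).hom V)
    ⟨Function.LeftInverse.injective (g := secMap A (TARingIso A F).inv V) fun s => by
      exact congr(Scheme.Modules.Hom.app $((TARingIso A F).hom_inv_id) V s),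
     Function.RightInverse.surjective (g := secMap A (TARingIso A F).inv V) fun s => by
      exact congr(Scheme.Modules.Hom.app $((TARingIso A F).inv_hom_id) V s)⟩)

end Sections

end Groth.Agent.Univ70
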