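import Groth.Agent.QC70.HomTensor
import Groth.Agent.QC70.HomStalk
import Groth.Agent.Props58.LocFree.Criteria
import Groth.Agent.Univ70.Sect
import Groth.Agent.Mum71.GlobalCorep

/-! Corepresentability of `M ↦ Hom(G, f^*M~ ⊗ F)` for `G` with a locally free presentation. -/

set_option autoImplicit false
set_option backward.isDefEq.respectTransparency.types false
set_option maxSynthPendingDepth 6
set_option synthInstance.maxHeartbeats 200000
set_option maxHeartbeats 1000000

noncomputable section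

universe u

open CategoryTheory CategoryTheory.Limits AlgebraicGeometry TopologicalSpace Opposite MonoidalCategory
open Groth.Agent.QC70

namespace Groth.Agent.Univ70

section Dual

variable {X : Scheme.{u}} {E : X.Modules}

open Props58.LocFree in
theorem isLocalIso_dualPair (hE : FlatMod.IsFinLocFree E) (M : X.Modules) :
    Mod48.IsLocalIso (dualPair E M) := by
  let q := dualPair E M
  constructor
  · refine ⟨fun {W} z z' hz => fun x hx => ?_⟩
    obtain ⟨U, n, s, hxU, hs⟩ := isFinLocFree_iff.mp hE x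
    refine ⟨W.unop ⊓ U, homOfLE inf_le_left, ?_, hx, hxU⟩
    refine (bijective_dualPair hs (inf_le_right : W.unop ⊓ U ≤ U)).1 ?_
    exact (PresheafOfModules.naturality_apply q (homOfLE inf_le_left).op z).trans
      ((congrArg (fun w => (Mod48.pre (O := X.sheaf) (homMod E M)).map
        (homOfLE (inf_le_left : W.unop ⊓ U ≤ W.unop)).op w)
        (show (q.app W).hom z = (q.app W).hom z' from hz)).trans
        (PresheafOfModules.naturality_apply q (homOfLE inf_le_left).op z').symm)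
  · refine ⟨fun {W} t => fun x hx => ?_⟩
    obtain ⟨U, n, s, hxU, hs⟩ := isFinLocFree_iff.mp hE x
    refine ⟨W ⊓ U, homOfLE inf_le_left, ?_, hx, hxU⟩
    exact (bijective_dualPair hs (inf_le_right : W ⊓ U ≤ U)).2 _

/-- The dual pairing is natural in `M`. -/
theorem dualPair_natural (E : X.Modules) {M N : X.Modules} (g : M ⟶ N) :
    (Mod48.fgt (O := X.sheaf)).map g ▷ Mod48.pre (O := X.sheaf) (dualMod E) ≫ dualPair E N =
      dualPair E M ≫ (Mod48.fgt (O := X.sheaf)).map (homMap E g) :=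
  Mod48.tensor_hom_ext fun W m φ => by
    refine HomOn.ext' fun V hV s => ?_
    change (toO ((ofSec φ).app V hV s)) • res N hV (Scheme.Modules.Hom.app g W.unop m) =
      Scheme.Modules.Hom.app g V ((toO ((ofSec φ).app V hV s)) • res M hV m)
    rw [Scheme.Modules.Hom.app_smul, QC70.app_res]

/-- `M ⊗ E^∨ ≅ 𝓗om(E, M)`. -/
def dualApp (hE : FlatMod.IsFinLocFree E) (M : X.Modules) :
    (Mod48.tR (O := X.sheaf) (dualMod E)).obj M ≅ (homFunctor E).obj M :=
  @asIso _ _ _ _ (Mod48.shf.map (dualPair E M))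
      ((Mod48.isIso_shf_map_iff_isLocalIso _).mpr (isLocalIso_dualPair hE M)) ≪≫
    Mod48.shfCounitIso.app (homMod E M)

theorem dualApp_hom (hE : FlatMod.IsFinLocFree E) (M : X.Modules) :
    (dualApp hE M).hom = Mod48.shf.map (dualPair E M) ≫ Mod48.shfCounitIso.hom.app (homMod E M) := rfl

theorem dualApp_natural (hE : FlatMod.IsFinLocFree E) {M N : X.Modules} (g : M ⟶ N) :
    (Mod48.tR (O := X.sheaf) (dualMod E)).map g ≫ (dualApp hE N).hom =
      (dualApp hE M).hom ≫ (homFunctor E).map g := by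
  rw [dualApp_hom, dualApp_hom]
  refine (Category.assoc _ _ _).symm.trans ?_
  refine (congrArg (· ≫ Mod48.shfCounitIso.hom.app (homMod E N))
    ((Mod48.shf.map_comp ((Mod48.fgt (O := X.sheaf)).map g ▷ Mod48.pre (O := X.sheaf) (dualMod E))
      (dualPair E N)).symm.trans ((congrArg Mod48.shf.map (dualPair_natural E g)).trans
        (Mod48.shf.map_comp (dualPair E M) ((Mod48.fgt (O := X.sheaf)).map (homMap E g)))))).trans ?_
  refine (Category.assoc _ _ _).trans ?_
  refine (congrArg (Mod48.shf.map (dualPair E M) ≫ ·)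
    (Mod48.shfCounitIso.hom.naturality (homMap E g))).trans ?_
  exact (Category.assoc _ _ _).symm

/-- `(-) ⊗ E^∨ ≅ 𝓗om(E, -)`. -/
def dualIso (hE : FlatMod.IsFinLocFree E) :
    Mod48.tR (O := X.sheaf) (dualMod E) ≅ homFunctor E :=
  NatIso.ofComponents (fun M => dualApp hE M) (fun g => dualApp_natural hE g)

/-- `Hom(E, N) = Γ(X, 𝓗om(E, N))`. -/
def homGlobalEquiv (E N : X.Modules) : (E ⟶ N) ≃+ Γ(homMod E N, ⊤) where
  toFun u := (HomOn.ofHom u ⊤).toSec
  invFun φ := HomOn.toHom (ofSec φ)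
  left_inv u := Scheme.Modules.hom_ext _ _ fun W => by
    ext s
    rfl
  right_inv φ := HomOn.ext' fun W hW s => rfl
  map_add' u v := HomOn.ext' fun W hW s => rfl

open Props58.LocFree in
/-- `𝓗om(E, F)` is flat over the base when `E` is locally free and `F` is flat. -/
theorem isFlatOver_homMod [IsLocallyNoetherian X] {S : Scheme.{u}} (f : X ⟶ S) {F : X.Modules}
    (hE : FlatMod.IsFinLocFree E) (hF : Coh.IsCoh F) (hfl : FlatMod.IsFlatOver f F) :
    FlatMod.IsFlatOver f (homMod E F) := fun x => by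
  obtain ⟨U, n, s, hxU, hs⟩ := isFinLocFree_iff.mp hE x
  obtain ⟨-, -, -, ⟨e₀⟩⟩ := exists_homStalk_coh
    (M := E) ⟨isQuasicoherent_of_isFinLocFree hE, isFiniteType_of_isFinLocFree hE⟩ hF x
  let e : (homMod E F).presheaf.stalk x ≃ₗ[X.presheaf.stalk x] (Fin n → F.presheaf.stalk x) :=
    e₀.trans ((LinearEquiv.congrLeft (F.presheaf.stalk x) (X.presheaf.stalk x) (hs.stalkEquiv x hxU).symm).trans
      (LinearEquiv.piRing (X.presheaf.stalk x) (F.presheaf.stalk x) (Fin n) (X.presheaf.stalk x)))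
  letI := FlatMod.moduleStalkOver f (homMod E F) x
  letI := FlatMod.moduleStalkOver f F x
  haveI : Module.Flat (S.presheaf.stalk (f.base x)) (F.presheaf.stalk x) := hfl x
  show Module.Flat (S.presheaf.stalk (f.base x)) ((homMod E F).presheaf.stalk x)
  let e' : (homMod E F).presheaf.stalk x ≃ₗ[S.presheaf.stalk (f.base x)] (Fin n → F.presheaf.stalk x) :=
    { e.toAddEquiv with map_smul' := fun r z => e.map_smul ((f.stalkMap x).hom r) z }
  classical
  exact Module.Flat.of_linearEquiv (e'.trans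
    (DirectSum.linearEquivFunOnFintype (S.presheaf.stalk (f.base x)) (Fin n) fun _ => F.presheaf.stalk x).symm)

end Dual

section Corep

variable {A : Type u} [CommRing A] [IsNoetherianRing A] {X : Scheme.{u}} [X.Over (Spec (CommRingCat.of A))]
  [IsProper (X ↘ Spec (CommRingCat.of A))]

/-- `M ↦ Hom(E, f^*M~ ⊗ F)` is corepresentable for `E` finite locally free. -/
theorem exists_corep_hom (F : X.Modules) (hF : Coh.IsCoh F)
    (hfl : FlatMod.IsFlatOver (X ↘ Spec (CommRingCat.of A)) F) (E : X.Modules)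
    (hE : FlatMod.IsFinLocFree E) :
    ∃ Q : ModuleCat.{u} A, Module.Finite A Q ∧
      Nonempty (CohIII.tensorAFunctor A F ⋙ preadditiveCoyoneda.obj (op E) ≅
        (linearCoyoneda A (ModuleCat.{u} A)).obj (op Q) ⋙ forget₂ (ModuleCat.{u} A) AddCommGrpCat.{u}) := by
  haveI : IsLocallyNoetherian X :=
    LocallyOfFiniteType.isLocallyNoetherian (X ↘ Spec (CommRingCat.of A))
  let F' := homMod E F
  have hF' : Coh.IsCoh F' :=
    isCoh_homMod ⟨Props58.LocFree.isQuasicoherent_of_isFinLocFree hE,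
      Props58.LocFree.isFiniteType_of_isFinLocFree hE⟩ hF
  obtain ⟨Q, hQ, ⟨e⟩⟩ := Mum71.exists_corep F' hF' (isFlatOver_homMod _ hE hF hfl)
  let D := dualMod E
  let s : DCoh.tensorRightMod F ≅ Mod48.tR (O := X.sheaf) F :=
    NatIso.ofComponents (fun _ => Iso.refl _)
      (fun f => (Category.comp_id _).trans (Category.id_comp _).symm)
  let s' : DCoh.tensorRightMod F' ≅ Mod48.tR (O := X.sheaf) F' :=
    NatIso.ofComponents (fun _ => Iso.refl _)
      (fun f => (Category.comp_id _).trans (Category.id_comp _).symm)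
  let t : Mod48.tR (O := X.sheaf) (Mod48.tens (O := X.sheaf) F D) ≅ Mod48.tR (O := X.sheaf) F' :=
    (ModSite.tensorBi X.sheaf).flip.mapIso ((dualIso hE).app F)
  let r : DCoh.tensorRightMod F ⋙ homFunctor E ≅ DCoh.tensorRightMod F' :=
    Functor.isoWhiskerRight s (homFunctor E) ≪≫
      Functor.isoWhiskerLeft (Mod48.tR (O := X.sheaf) F) (dualIso hE).symm ≪≫
        Mod48.tensAssocNat (O := X.sheaf) F D ≪≫ t ≪≫ s'.symm
  let T : CohIII.tensorAFunctor A F ⋙ homFunctor E ≅ CohIII.tensorAFunctor A F' :=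
    Functor.isoWhiskerLeft (tilde.functor (CommRingCat.of A))
      (Functor.isoWhiskerLeft (Scheme.Modules.pullback (X ↘ Spec (CommRingCat.of A))) r)
  let h : CohIII.tensorAFunctor A F ⋙ preadditiveCoyoneda.obj (op E) ≅
      (CohIII.tensorAFunctor A F ⋙ homFunctor E) ⋙ CohIII.globalSectionsA A ⋙
        forget₂ (ModuleCat.{u} A) AddCommGrpCat.{u} :=
    NatIso.ofComponents (fun M => (homGlobalEquiv E ((CohIII.tensorAFunctor A F).obj M)).toAddCommGrpIso)
      (fun {M N} g => by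
        ext u
        rfl)
  refine ⟨Q, hQ, ⟨h ≪≫ Functor.isoWhiskerRight T _ ≪≫ ?_⟩⟩
  exact (Functor.associator _ _ _).symm ≪≫ Functor.isoWhiskerRight e _

/-- `M ↦ Hom(G, f^*M~ ⊗ F)` is corepresentable for `G` with a locally free presentation. -/
theorem exists_corep_coker (F : X.Modules) (hF : Coh.IsCoh F)
    (hfl : FlatMod.IsFlatOver (X ↘ Spec (CommRingCat.of A)) F) {G E₀ E₁ : X.Modules}
    (h₀ : FlatMod.IsFinLocFree E₀) (h₁ : FlatMod.IsFinLocFree E₁)
    (v : E₁ ⟶ E₀) (π : E₀ ⟶ G) [Epi π] (w : v ≫ π = 0) (hex : (ShortComplex.mk v π w).Exact) :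
    ∃ N : ModuleCat.{u} A, Module.Finite A N ∧
      Nonempty (CohIII.tensorAFunctor A F ⋙ preadditiveCoyoneda.obj (op G) ≅
        (linearCoyoneda A (ModuleCat.{u} A)).obj (op N) ⋙ forget₂ (ModuleCat.{u} A) AddCommGrpCat.{u}) := by
  obtain ⟨Q₀, hQ₀, ⟨φ₀⟩⟩ := exists_corep_hom F hF hfl E₀ h₀
  obtain ⟨Q₁, -, ⟨φ₁⟩⟩ := exists_corep_hom F hF hfl E₁ h₁
  let T := CohIII.tensorAFunctor A F
  let a₀ : ∀ M : ModuleCat.{u} A, (E₀ ⟶ T.obj M) ≃+ (Q₀ ⟶ M) := fun M =>
    (φ₀.app M).addCommGroupIsoToAddEquiv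
  let a₁ : ∀ M : ModuleCat.{u} A, (E₁ ⟶ T.obj M) ≃+ (Q₁ ⟶ M) := fun M =>
    (φ₁.app M).addCommGroupIsoToAddEquiv
  have n₀ : ∀ {M M' : ModuleCat.{u} A} (g : M ⟶ M') (y : E₀ ⟶ T.obj M),
      a₀ M' (y ≫ T.map g) = a₀ M y ≫ g := fun g y => ConcreteCategory.congr_hom (φ₀.hom.naturality g) y
  have n₁ : ∀ {M M' : ModuleCat.{u} A} (g : M ⟶ M') (y : E₁ ⟶ T.obj M),
      a₁ M' (y ≫ T.map g) = a₁ M y ≫ g := fun g y => ConcreteCategory.congr_hom (φ₁.hom.naturality g) y
  let u₀ : E₀ ⟶ T.obj Q₀ := (a₀ Q₀).symm (𝟙 Q₀)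
  let h : Q₁ ⟶ Q₀ := a₁ Q₀ (v ≫ u₀)
  have hy : ∀ (M : ModuleCat.{u} A) (y : E₀ ⟶ T.obj M), a₁ M (v ≫ y) = h ≫ a₀ M y := fun M y => by
    have : y = u₀ ≫ T.map (a₀ M y) := (a₀ M).injective (by
      rw [n₀, AddEquiv.apply_symm_apply, Category.id_comp])
    conv_lhs => rw [this, ← Category.assoc, n₁]
  let N := ModuleCat.of A (Q₀ ⧸ LinearMap.range h.hom)
  let q : Q₀ ⟶ N := ModuleCat.ofHom (LinearMap.range h.hom).mkQ
  haveI : Epi q := (ModuleCat.epi_iff_surjective _).2 (Submodule.mkQ_surjective _)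
  have hhq : h ≫ q = 0 := ModuleCat.hom_ext (LinearMap.range_mkQ_comp h.hom)
  have hc : IsColimit (CokernelCofork.ofπ π w) :=
    haveI : Epi (ShortComplex.mk v π w).g := ‹Epi π›
    hex.gIsCokernel
  have hz : ∀ (M : ModuleCat.{u} A) (x : N ⟶ M), v ≫ (a₀ M).symm (q ≫ x) = 0 := fun M x =>
    (a₁ M).injective (by
      rw [hy, AddEquiv.apply_symm_apply, ← Category.assoc, hhq, zero_comp, map_zero])
  let back : ∀ M : ModuleCat.{u} A, (N ⟶ M) →+ (G ⟶ T.obj M) := fun M =>
    { toFun := fun x => hc.desc (CokernelCofork.ofπ _ (hz M x))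
      map_zero' := (cancel_epi π).1 ((Cofork.IsColimit.π_desc hc).trans (by
        show (a₀ M).symm (q ≫ 0) = π ≫ 0
        rw [comp_zero, map_zero, comp_zero]))
      map_add' := fun x y => (cancel_epi π).1 ((Cofork.IsColimit.π_desc hc).trans (by
        let h' : ∀ z : N ⟶ M, G ⟶ T.obj M := fun z => hc.desc (CokernelCofork.ofπ _ (hz M z))
        have e : ∀ z, π ≫ h' z = (a₀ M).symm (q ≫ z) := fun z => Cofork.IsColimit.π_desc hc
        show (a₀ M).symm (q ≫ (x + y)) = π ≫ (h' x + h' y)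
        rw [Preadditive.comp_add, Preadditive.comp_add, e, e, map_add])) }
  have hπ : ∀ (M : ModuleCat.{u} A) (x : N ⟶ M), π ≫ back M x = (a₀ M).symm (q ≫ x) :=
    fun M x => Cofork.IsColimit.π_desc hc
  have hbij : ∀ M, Function.Bijective (back M) := fun M => by
    refine ⟨fun x y hxy => (cancel_epi q).1 ((a₀ M).symm.injective ?_), fun g => ?_⟩
    · rw [← hπ, ← hπ, hxy]
    · have hk : h ≫ a₀ M (π ≫ g) = 0 := by
        rw [← hy, ← Category.assoc, w, zero_comp, map_zero]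
      refine ⟨ModuleCat.ofHom ((LinearMap.range h.hom).liftQ (a₀ M (π ≫ g)).hom
        (LinearMap.range_le_ker_iff.2 (congrArg ModuleCat.Hom.hom hk))), (cancel_epi π).1 ?_⟩
      rw [hπ]
      refine (a₀ M).injective ?_
      rw [AddEquiv.apply_symm_apply]
      exact ModuleCat.hom_ext (Submodule.liftQ_mkQ _ _ _)
  refine ⟨N, inferInstanceAs (Module.Finite A (Q₀ ⧸ LinearMap.range h.hom)),
    ⟨(NatIso.ofComponents (fun M => (AddEquiv.ofBijective (back M) (hbij M)).toAddCommGrpIso) ?_).symm⟩⟩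
  intro M M' g
  ext x
  refine (cancel_epi π).1 ?_
  show π ≫ back M' (x ≫ g) = π ≫ (back M x ≫ T.map g)
  rw [hπ, ← Category.assoc q x g]
  refine Eq.trans ?_ (Category.assoc π (back M x) (T.map g))
  rw [hπ]
  refine (a₀ M').injective ?_
  rw [AddEquiv.apply_symm_apply, n₀, AddEquiv.apply_symm_apply, Category.assoc]

end Corep

end Groth.Agent.Univ70
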