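import Mathlib.Algebra.Category.ModuleCat.Colimits
import Mathlib.Algebra.Category.ModuleCat.EpiMono
import Mathlib.Algebra.Category.Grp.Abelian
import Mathlib.Algebra.Homology.ShortComplex.ExactFunctor
import Mathlib.Algebra.Homology.ShortComplex.ModuleCat
import Mathlib.CategoryTheory.Limits.Preserves.Basic

/-! Natural transformations between colimit preserving functors on modules. -/

set_option autoImplicit false

noncomputable section

universe u v w

open CategoryTheory CategoryTheory.Limits

namespace Groth.Agent.Univ70

variable {A : Type u} [CommRing A] {D : Type w} [Category.{v} D]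

/-- A natural transformation between colimit preserving functors on modules which is an
isomorphism at the ring is an isomorphism. -/
theorem isIso_app_of_isIso_app_ring (P Q : ModuleCat.{u} A ⥤ D) [PreservesColimitsOfSize.{u, u} P]
    [PreservesColimitsOfSize.{u, u} Q] [PreservesColimitsOfShape WalkingParallelPair P]
    [PreservesColimitsOfShape WalkingParallelPair Q] (α : P ⟶ Q)
    (h : IsIso (α.app (ModuleCat.of A A))) (M : ModuleCat.{u} A) : IsIso (α.app M) := by
  have hfree : ∀ S : Type u, IsIso (α.app (∐ fun _ : S => ModuleCat.of A A)) := fun S => by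
    let F : Discrete S ⥤ ModuleCat.{u} A := Discrete.functor fun _ => ModuleCat.of A A
    have : IsIso (Functor.whiskerLeft F α) :=
      @NatIso.isIso_of_isIso_app _ _ _ _ _ _ _ (fun _ => h)
    exact isIso_app_coconePt_of_preservesColimit F α _ (colimit.isColimit F)
  let π : (∐ fun _ : (M : Type u) => ModuleCat.of A A) ⟶ M :=
    Sigma.desc fun m => ModuleCat.ofHom (LinearMap.toSpanSingleton A M m)
  have hπ : Function.Surjective π.hom := fun m => by
    refine ⟨(Sigma.ι (fun _ : (M : Type u) => ModuleCat.of A A) m).hom (1 : A), ?_⟩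
    rw [← LinearMap.comp_apply, ← ModuleCat.hom_comp, Sigma.ι_desc]
    exact one_smul A m
  let K := LinearMap.ker π.hom
  let f : (∐ fun _ : K => ModuleCat.of A A) ⟶ (∐ fun _ : (M : Type u) => ModuleCat.of A A) :=
    Sigma.desc fun k => ModuleCat.ofHom (LinearMap.toSpanSingleton A _ k.1)
  have hf : f ≫ π = 0 := Sigma.hom_ext _ _ fun k => by
    rw [comp_zero]
    refine ModuleCat.hom_ext (LinearMap.ext_ring ?_)
    rw [Sigma.ι_desc_assoc]
    show π.hom ((1 : A) • k.1) = 0
    rw [one_smul]
    exact k.2
  let S := ShortComplex.mk f π hf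
  have hS : S.Exact := by
    rw [ShortComplex.moduleCat_exact_iff]
    intro x hx
    refine ⟨(Sigma.ι (fun _ : K => ModuleCat.of A A) ⟨x, hx⟩).hom (1 : A), ?_⟩
    rw [← LinearMap.comp_apply, ← ModuleCat.hom_comp, Sigma.ι_desc]
    exact one_smul A x
  have : Epi S.g := (ModuleCat.epi_iff_surjective _).2 hπ
  have hc : IsColimit (CokernelCofork.ofπ π hf) := hS.gIsCokernel
  have : IsIso (Functor.whiskerLeft (parallelPair f 0) α) :=
    @NatIso.isIso_of_isIso_app _ _ _ _ _ _ _ (fun j => by
      cases j
      · exact hfree K
      · exact hfree M)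
  exact isIso_app_coconePt_of_preservesColimit (parallelPair f 0) α _ hc

end Groth.Agent.Univ70
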